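import Mathlib

/-!
# Cancellation in alternating sums over normal chains of p-subgroups
-/

set_option autoImplicit false
set_option linter.unusedSectionVars false

namespace Cfsg.Agent.Lib.ChainSum

variable {G : Type*} [Group G]

/-- A nonempty chain of nontrivial `p`-subgroups, all normal in the largest one. -/
def IsNChain (p : ℕ) (s : Finset (Subgroup G)) : Prop :=
  s.Nonempty ∧ (∀ Q ∈ s, ∀ R ∈ s, Q ≤ R ∨ R ≤ Q) ∧ (∀ Q ∈ s, Q ≠ ⊥ ∧ IsPGroup p Q) ∧
    ∃ T ∈ s, ∀ Q ∈ s, Q ≤ T ∧ T ≤ Subgroup.normalizer ((Q : Subgroup G) : Set G)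

/-- The stabilizer of a chain. -/
def stab (s : Finset (Subgroup G)) : Subgroup G :=
  ⨅ Q ∈ s, Subgroup.normalizer ((Q : Subgroup G) : Set G)

theorem mem_stab {s : Finset (Subgroup G)} {c : G} :
    c ∈ stab s ↔ ∀ Q ∈ s, c ∈ Subgroup.normalizer ((Q : Subgroup G) : Set G) := by
  simp [stab, Subgroup.mem_iInf]

theorem mem_norm_sup_finset (t : Finset (Subgroup G)) {c : G}
    (h : ∀ Q ∈ t, c ∈ Subgroup.normalizer ((Q : Subgroup G) : Set G)) :
    c ∈ Subgroup.normalizer ((t.sup id : Subgroup G) : Set G) := by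
  refine Finset.sup_induction (p := fun K : Subgroup G => c ∈ Subgroup.normalizer (K : Set G))
    ?_ (fun K₁ h₁ K₂ h₂ => Subgroup.normalizer_inf_normalizer_le_normalizer_sup K₁ K₂ ⟨h₁, h₂⟩) h
  rw [Subgroup.mem_normalizer_iff]
  intro x
  simp [conj_eq_one_iff]

/-- The subgroup generated by the conjugates of `u` under `T`. -/
def conjGen (T : Subgroup G) (u : G) : Subgroup G :=
  Subgroup.closure {x | ∃ t ∈ T, t * u * t⁻¹ = x}

theorem mem_conjGen (T : Subgroup G) (u : G) : u ∈ conjGen T u :=
  Subgroup.subset_closure ⟨1, T.one_mem, by simp⟩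

theorem conjGen_mono {T T' : Subgroup G} (h : T ≤ T') (u : G) : conjGen T u ≤ conjGen T' u :=
  Subgroup.closure_mono fun _ ⟨t, ht, e⟩ => ⟨t, h ht, e⟩

theorem conjGen_le {T K : Subgroup G} {u : G} (hu : u ∈ K)
    (h : T ≤ Subgroup.normalizer (K : Set G)) : conjGen T u ≤ K := by
  rw [conjGen, Subgroup.closure_le]
  rintro _ ⟨t, ht, rfl⟩
  exact (Subgroup.mem_normalizer_iff.1 (h ht) u).1 hu

theorem conjGen_norm_aux {T : Subgroup G} {u c : G}
    (h : ∀ t ∈ T, ∃ t' ∈ T, t' * u * t'⁻¹ = c * (t * u * t⁻¹) * c⁻¹) {x : G}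
    (hx : x ∈ conjGen T u) : c * x * c⁻¹ ∈ conjGen T u := by
  have : conjGen T u ≤ (conjGen T u).comap (MulAut.conj c).toMonoidHom := by
    rw [conjGen, Subgroup.closure_le]
    rintro _ ⟨t, ht, rfl⟩
    obtain ⟨t', ht', e⟩ := h t ht
    exact Subgroup.subset_closure ⟨t', ht', by simpa using e⟩
  exact this hx

theorem mem_norm_conjGen {T : Subgroup G} {u c : G}
    (hc : c ∈ Subgroup.normalizer (T : Set G)) (hcu : c * u = u * c) :
    c ∈ Subgroup.normalizer ((conjGen T u : Subgroup G) : Set G) := by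
  have key : ∀ d : G, d ∈ Subgroup.normalizer (T : Set G) → d * u = u * d →
      ∀ x ∈ conjGen T u, d * x * d⁻¹ ∈ conjGen T u := fun d hd hdu x hx =>
    conjGen_norm_aux (fun t ht => ⟨d * t * d⁻¹, (Subgroup.mem_normalizer_iff.1 hd t).1 ht, by
      have e : d⁻¹ * u * d = u := by rw [mul_assoc, ← hdu, inv_mul_cancel_left]
      calc d * t * d⁻¹ * u * (d * t * d⁻¹)⁻¹ = d * t * (d⁻¹ * u * d) * t⁻¹ * d⁻¹ := by group
        _ = d * (t * u * t⁻¹) * d⁻¹ := by rw [e]; group⟩) hx
  rw [Subgroup.mem_normalizer_iff]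
  refine fun x => ⟨key c hc hcu x, fun hx => ?_⟩
  have h := key c⁻¹ (inv_mem hc) ((Commute.inv_left hcu).eq) _ hx
  rwa [inv_inv, ← mul_assoc, ← mul_assoc, inv_mul_cancel, one_mul, inv_mul_cancel_right] at h

theorem mem_norm_conjGen_of_mem {T : Subgroup G} (u : G) {c : G} (hc : c ∈ T) :
    c ∈ Subgroup.normalizer ((conjGen T u : Subgroup G) : Set G) := by
  have key : ∀ d ∈ T, ∀ x ∈ conjGen T u, d * x * d⁻¹ ∈ conjGen T u := fun d hd x hx =>
    conjGen_norm_aux (fun t ht => ⟨d * t, mul_mem hd ht, by group⟩) hx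
  rw [Subgroup.mem_normalizer_iff]
  refine fun x => ⟨key c hc x, fun hx => ?_⟩
  have h := key c⁻¹ (inv_mem hc) _ hx
  rwa [inv_inv, ← mul_assoc, ← mul_assoc, inv_mul_cancel, one_mul, inv_mul_cancel_right] at h

open Classical in
/-- The members avoiding `u`, joined. -/
noncomputable def below (u : G) (s : Finset (Subgroup G)) : Subgroup G :=
  (s.filter fun Q => u ∉ Q).sup id

/-- The member to be toggled. -/
noncomputable def pivot (u : G) (s : Finset (Subgroup G)) : Subgroup G :=
  below u s ⊔ conjGen (s.sup id) u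

open Classical in
/-- Insert or remove the pivot. -/
noncomputable def toggle (u : G) (s : Finset (Subgroup G)) : Finset (Subgroup G) :=
  if pivot u s ∈ s then s.erase (pivot u s) else insert (pivot u s) s

theorem mem_pivot (u : G) (s : Finset (Subgroup G)) : u ∈ pivot u s :=
  Subgroup.mem_sup_right (mem_conjGen _ u)

open Classical in
theorem below_le (u : G) (s : Finset (Subgroup G)) : below u s ≤ s.sup id :=
  Finset.sup_mono (Finset.filter_subset _ _)

open Classical in
theorem below_toggle (u : G) (s : Finset (Subgroup G)) : below u (toggle u s) = below u s := by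
  have h : ¬ u ∉ pivot u s := not_not.2 (mem_pivot u s)
  unfold below toggle
  split_ifs
  · have h' : pivot u s ∉ s.filter fun Q => u ∉ Q := fun hm => h (Finset.mem_filter.1 hm).2
    rw [Finset.filter_erase, Finset.erase_eq_of_notMem h']
  · rw [Finset.filter_insert, if_neg h]

section Chain

variable {p : ℕ} {u : G} {s : Finset (Subgroup G)}

theorem IsNChain.top_mem (hs : IsNChain p s) :
    s.sup id ∈ s ∧ ∀ Q ∈ s, s.sup id ≤ Subgroup.normalizer ((Q : Subgroup G) : Set G) := by
  obtain ⟨-, -, -, T, hT, h⟩ := hs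
  have e : s.sup id = T := le_antisymm (Finset.sup_le fun Q hQ => (h Q hQ).1)
    (Finset.le_sup (f := id) hT)
  exact ⟨e ▸ hT, fun Q hQ => e ▸ (h Q hQ).2⟩

theorem IsNChain.pivot_le (hs : IsNChain p s) {Q : Subgroup G} (hQ : Q ∈ s) (hu : u ∈ Q) :
    pivot u s ≤ Q := by
  classical
  refine sup_le (Finset.sup_le fun R hR => ?_) (conjGen_le hu (hs.top_mem.2 Q hQ))
  obtain ⟨hR, hRu⟩ := Finset.mem_filter.1 hR
  exact (hs.2.1 R hR Q hQ).resolve_right fun h => hRu (h hu)

theorem IsNChain.le_pivot {Q : Subgroup G} (hQ : Q ∈ s) (hu : u ∉ Q) : Q ≤ pivot u s := by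
  classical
  exact le_trans (Finset.le_sup (f := id) (Finset.mem_filter.2 ⟨hQ, hu⟩)) le_sup_left

theorem IsNChain.top_norm_pivot (hs : IsNChain p s) :
    s.sup id ≤ Subgroup.normalizer ((pivot u s : Subgroup G) : Set G) := by
  classical
  intro t ht
  refine Subgroup.normalizer_inf_normalizer_le_normalizer_sup _ _
    ⟨mem_norm_sup_finset _ fun Q hQ => hs.top_mem.2 Q (Finset.mem_filter.1 hQ).1 ht,
      mem_norm_conjGen_of_mem u ht⟩

theorem IsNChain.pivot_eq_of_not_mem_top (hs : IsNChain p s) (hst : u ∈ stab s)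
    (hu : u ∉ s.sup id) : pivot u s = s.sup id ⊔ Subgroup.zpowers u := by
  classical
  refine le_antisymm (sup_le (le_trans (below_le u s) le_sup_left) (conjGen_le
    (Subgroup.mem_sup_right (Subgroup.mem_zpowers u)) (le_sup_left.trans Subgroup.le_normalizer)))
    (sup_le ?_ ((Subgroup.zpowers_le).2 (mem_pivot u s)))
  exact IsNChain.le_pivot hs.top_mem.1 hu

theorem IsNChain.isPGroup_pivot [Fact p.Prime] (hs : IsNChain p s) (hst : u ∈ stab s)
    (hup : IsPGroup p (Subgroup.zpowers u)) : IsPGroup p (pivot u s) := by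
  classical
  have hTp := (hs.2.2.1 _ hs.top_mem.1).2
  refine (hTp.to_sup_of_normal_left' hup ((Subgroup.zpowers_le).2
    ((mem_stab.1 hst) _ hs.top_mem.1))).to_le ?_
  exact sup_le (le_trans (below_le u s) le_sup_left) (conjGen_le
    (Subgroup.mem_sup_right (Subgroup.mem_zpowers u)) (le_sup_left.trans Subgroup.le_normalizer))

theorem pivot_toggle [Finite G] [Fact p.Prime] (hs : IsNChain p s) (hst : u ∈ stab s) :
    pivot u (toggle u s) = pivot u s := by
  classical
  show below u (toggle u s) ⊔ _ = _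
  rw [below_toggle]
  have htog : toggle u s = if pivot u s ∈ s then s.erase (pivot u s) else insert (pivot u s) s := rfl
  rw [htog]
  split_ifs with hX
  · by_cases hXT : pivot u s = s.sup id
    · -- the top is removed
      have hB : (s.erase (pivot u s)).sup id = below u s := by
        refine congrArg (fun t : Finset (Subgroup G) => t.sup id) ?_
        ext Q
        simp only [Finset.mem_erase, Finset.mem_filter]
        refine ⟨fun h => ⟨h.2, fun hu => h.1 (le_antisymm ?_ (hs.pivot_le h.2 hu))⟩,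
          fun h => ⟨fun e => h.2 (e ▸ mem_pivot u s), h.1⟩⟩
        rw [hXT]; exact Finset.le_sup (f := id) h.2
      rw [hB]
      refine le_antisymm (sup_le le_sup_left
        (le_trans (conjGen_mono (below_le u s) u) le_sup_right)) ?_
      by_contra hlt
      set T := s.sup id with hT
      set Y := below u s ⊔ conjGen (below u s) u
      have hYT : Y ≤ T := by
        rw [← hXT]
        exact sup_le le_sup_left (le_trans (conjGen_mono (below_le u s) u) le_sup_right)
      have hY : Y.subgroupOf T ≠ ⊤ := fun h => hlt (by rw [hXT]; exact Subgroup.subgroupOf_eq_top.1 h)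
      obtain ⟨K, hK, hYK⟩ := (eq_top_or_exists_le_coatom (Y.subgroupOf T)).resolve_left hY
      haveI : Group.IsNilpotent T := (hs.2.2.1 _ hs.top_mem.1).2.isNilpotent
      haveI : K.Normal := Subgroup.NormalizerCondition.normal_of_coatom K
        (Group.normalizerCondition_of_isNilpotent) hK
      have huY : u ∈ Y := Subgroup.mem_sup_right (mem_conjGen _ u)
      have h1 : pivot u s ≤ K.map T.subtype := by
        refine sup_le (fun x hx => ⟨⟨x, hYT (Subgroup.mem_sup_left hx)⟩,
          hYK (Subgroup.mem_subgroupOf.2 (Subgroup.mem_sup_left hx)), rfl⟩) ?_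
        rw [conjGen, Subgroup.closure_le]
        rintro _ ⟨t, ht, rfl⟩
        exact ⟨⟨t, ht⟩ * ⟨u, hYT huY⟩ * ⟨t, ht⟩⁻¹,
          Subgroup.Normal.conj_mem inferInstance _ (hYK (Subgroup.mem_subgroupOf.2 huY)) _, rfl⟩
      refine hK.1 (Subgroup.map_injective T.subtype_injective ?_)
      rw [← MonoidHom.range_eq_map, Subgroup.range_subtype]
      exact le_antisymm (Subgroup.map_subtype_le K) (hXT.ge.trans h1)
    · have hB : (s.erase (pivot u s)).sup id = s.sup id :=
        le_antisymm (Finset.sup_mono (Finset.erase_subset _ _))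
          (Finset.le_sup (f := id) (Finset.mem_erase.2 ⟨Ne.symm hXT, hs.top_mem.1⟩))
      rw [hB]; rfl
  · have hB : (insert (pivot u s) s).sup id = pivot u s ⊔ s.sup id := Finset.sup_insert
    rw [hB]
    refine le_antisymm (sup_le le_sup_left ?_) (sup_le le_sup_left
      (le_trans (conjGen_mono le_sup_right u) le_sup_right))
    exact conjGen_le (mem_pivot u s) (sup_le Subgroup.le_normalizer hs.top_norm_pivot)

theorem toggle_toggle [Finite G] [Fact p.Prime] (hs : IsNChain p s) (hst : u ∈ stab s) :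
    toggle u (toggle u s) = s := by
  classical
  have h := pivot_toggle (p := p) hs hst
  unfold toggle at h ⊢
  rw [h]
  by_cases hX : pivot u s ∈ s
  · simp only [if_pos hX]
    rw [if_neg (Finset.notMem_erase _ _), Finset.insert_erase hX]
  · simp only [if_neg hX]
    rw [if_pos (Finset.mem_insert_self _ _), Finset.erase_insert hX]

theorem stab_inf_le_toggle (u : G) (s : Finset (Subgroup G)) :
    Subgroup.centralizer ({u} : Set G) ⊓ stab s ≤
      Subgroup.centralizer ({u} : Set G) ⊓ stab (toggle u s) := by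
  classical
  rintro c ⟨hcu, hc⟩
  refine ⟨hcu, mem_stab.2 fun Q hQ => ?_⟩
  rcases eq_or_ne Q (pivot u s) with rfl | hne
  · exact Subgroup.normalizer_inf_normalizer_le_normalizer_sup _ _
      ⟨mem_norm_sup_finset _ fun R hR => mem_stab.1 hc R (Finset.mem_filter.1 hR).1,
        mem_norm_conjGen (mem_norm_sup_finset _ (mem_stab.1 hc))
          (Subgroup.mem_centralizer_singleton_iff.1 hcu)⟩
  · refine mem_stab.1 hc Q ?_
    unfold toggle at hQ
    split_ifs at hQ
    · exact (Finset.mem_erase.1 hQ).2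
    · exact (Finset.mem_insert.1 hQ).resolve_left hne

theorem toggle_zpowers (u : G) : pivot u ({Subgroup.zpowers u} : Finset (Subgroup G)) = Subgroup.zpowers u := by
  classical
  rw [pivot, below, Finset.filter_singleton, if_neg (not_not.2 (Subgroup.mem_zpowers u)),
    Finset.sup_empty, Finset.sup_singleton, bot_sup_eq]
  exact le_antisymm (conjGen_le (Subgroup.mem_zpowers u) Subgroup.le_normalizer)
    ((Subgroup.zpowers_le).2 (mem_conjGen _ u))

end Chain

/-- The alternating sum over chains stabilised by `u` of a function of `C(u) ∩ N(s)`. -/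
theorem sum_chains [Finite G] {R : Type*} [CommRing R] {p : ℕ} [Fact p.Prime] {u : G} (hu1 : u ≠ 1)
    (hup : IsPGroup p (Subgroup.zpowers u)) (W : Subgroup G → R) (S : Finset (Finset (Subgroup G)))
    (hS : ∀ s, s ∈ S ↔ IsNChain p s ∧ u ∈ stab s) :
    ∑ s ∈ S, (-1 : R) ^ (s.card - 1) * W (Subgroup.centralizer ({u} : Set G) ⊓ stab s) =
      W (Subgroup.centralizer ({u} : Set G)) := by
  classical
  set C := Subgroup.centralizer ({u} : Set G)
  set s₀ : Finset (Subgroup G) := {Subgroup.zpowers u} with hs₀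
  have h0 : s₀ ∈ S := by
    rw [hS]
    refine ⟨⟨Finset.singleton_nonempty _, ?_, ?_, Subgroup.zpowers u, Finset.mem_singleton_self _, ?_⟩, ?_⟩
    · simp [hs₀]
    · intro Q hQ
      rw [hs₀, Finset.mem_singleton] at hQ
      subst hQ
      exact ⟨fun h => hu1 (Subgroup.zpowers_eq_bot.1 h), hup⟩
    · intro Q hQ
      rw [hs₀, Finset.mem_singleton] at hQ
      subst hQ
      exact ⟨le_rfl, Subgroup.le_normalizer⟩
    · rw [mem_stab]
      intro Q hQ
      rw [hs₀, Finset.mem_singleton] at hQ
      subst hQ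
      exact Subgroup.le_normalizer (Subgroup.mem_zpowers u)
  have h0' : C ⊓ stab s₀ = C := by
    refine inf_eq_left.2 fun c hc => mem_stab.2 fun Q hQ => ?_
    rw [hs₀, Finset.mem_singleton] at hQ
    subst hQ
    refine Subgroup.mem_normalizer_iff.2 fun x => ?_
    have hcomm : ∀ k : ℤ, c * u ^ k * c⁻¹ = u ^ k := fun k => by
      rw [((show Commute c u from Subgroup.mem_centralizer_singleton_iff.1 hc).zpow_right k).eq,
        mul_inv_cancel_right]
    constructor
    · rintro ⟨k, rfl⟩
      exact ⟨k, (hcomm k).symm⟩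
    · rintro ⟨k, hk⟩
      refine ⟨k, ?_⟩
      have := (hcomm k).trans hk
      exact mul_left_cancel (mul_right_cancel this)
  have hmem : ∀ s ∈ S.erase s₀, toggle u s ∈ S.erase s₀ := by
    intro s hs
    obtain ⟨hne, hs⟩ := Finset.mem_erase.1 hs
    obtain ⟨hc, hst⟩ := (hS s).1 hs
    have hmemT : ∀ Q ∈ toggle u s, Q = pivot u s ∨ Q ∈ s := by
      intro Q hQ
      unfold toggle at hQ
      split_ifs at hQ
      · exact Or.inr (Finset.mem_erase.1 hQ).2
      · exact Finset.mem_insert.1 hQ
    refine Finset.mem_erase.2 ⟨fun e => ?_, (hS _).2 ⟨?_, ?_⟩⟩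
    · have h1 := toggle_toggle (p := p) hc hst
      rw [e, toggle, hs₀, toggle_zpowers, if_pos (Finset.mem_singleton_self _),
        Finset.erase_singleton] at h1
      exact hc.1.ne_empty h1.symm
    · have hne' : (toggle u s).Nonempty := by
        unfold toggle
        split_ifs with hX
        · rw [Finset.erase_nonempty hX, Finset.nontrivial_iff_ne_singleton hX]
          intro e
          refine hne ?_
          have hP : pivot u s ≤ Subgroup.zpowers u := by
            have h1 := pivot_toggle (p := p) hc hst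
            have he : s.erase (pivot u s) = ∅ := (Finset.erase_eq_empty_iff s _).2 (Or.inr e)
            rw [toggle, if_pos hX, he] at h1
            rw [← h1, pivot, below, Finset.filter_empty, Finset.sup_empty, bot_sup_eq]
            exact conjGen_le (Subgroup.mem_zpowers u) (by simp)
          rw [e, hs₀, le_antisymm hP ((Subgroup.zpowers_le).2 (mem_pivot u s))]
        · exact Finset.insert_nonempty _ _
      refine ⟨hne', ?_, ?_, ?_⟩
      · intro Q hQ R hR
        have key : ∀ Q ∈ s, Q ≤ pivot u s ∨ pivot u s ≤ Q := fun Q hQ => by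
          by_cases h : u ∈ Q
          · exact Or.inr (hc.pivot_le hQ h)
          · exact Or.inl (IsNChain.le_pivot hQ h)
        rcases hmemT Q hQ with rfl | hQ <;> rcases hmemT R hR with rfl | hR
        · exact Or.inl le_rfl
        · exact (key R hR).symm
        · exact key Q hQ
        · exact hc.2.1 Q hQ R hR
      · intro Q hQ
        rcases hmemT Q hQ with rfl | hQ
        · exact ⟨fun h => hu1 (Subgroup.mem_bot.1 (h ▸ mem_pivot u s)), hc.isPGroup_pivot hst hup⟩
        · exact hc.2.2.1 Q hQ
      · obtain ⟨T, hT, hTmax⟩ : ∃ T ∈ toggle u s, ∀ Q ∈ toggle u s, Q ≤ T := by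
          obtain ⟨T, hT, hTm⟩ := (toggle u s).exists_maximal hne'
          refine ⟨T, hT, fun Q hQ => ?_⟩
          have hch : Q ≤ T ∨ T ≤ Q := by
            have key : ∀ Q ∈ s, Q ≤ pivot u s ∨ pivot u s ≤ Q := fun Q hQ => by
              by_cases h : u ∈ Q
              · exact Or.inr (hc.pivot_le hQ h)
              · exact Or.inl (IsNChain.le_pivot hQ h)
            rcases hmemT Q hQ with rfl | hQ <;> rcases hmemT T hT with rfl | hT
            · exact Or.inl le_rfl
            · exact (key T hT).symm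
            · exact key Q hQ
            · exact hc.2.1 Q hQ T hT
          exact hch.elim id fun h => hTm hQ h
        refine ⟨T, hT, fun Q hQ => ⟨hTmax Q hQ, ?_⟩⟩
        rcases hmemT T hT with rfl | hT'
        · rcases hmemT Q hQ with rfl | hQ'
          · exact Subgroup.le_normalizer
          · by_cases huT : u ∈ s.sup id
            · exact le_trans (hc.pivot_le hc.top_mem.1 huT) (hc.top_mem.2 Q hQ')
            · rw [hc.pivot_eq_of_not_mem_top hst huT]
              exact sup_le (hc.top_mem.2 Q hQ') ((Subgroup.zpowers_le).2 (mem_stab.1 hst Q hQ'))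
        · refine le_trans (Finset.le_sup (f := id) hT') ?_
          rcases hmemT Q hQ with rfl | hQ'
          · exact hc.top_norm_pivot
          · exact hc.top_mem.2 Q hQ'
    · exact (stab_inf_le_toggle u s ⟨Subgroup.mem_centralizer_singleton_iff.2 rfl, hst⟩).2
  rw [← Finset.add_sum_erase S _ h0, h0', hs₀, Finset.card_singleton, Nat.sub_self, pow_zero,
    one_mul, add_eq_left]
  refine Finset.sum_involution (fun s _ => toggle u s) ?_ ?_ hmem ?_
  · intro s hs
    obtain ⟨hc, hst⟩ := (hS s).1 (Finset.mem_erase.1 hs).2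
    obtain ⟨hc', hst'⟩ := (hS _).1 (Finset.mem_erase.1 (hmem s hs)).2
    have heq : C ⊓ stab (toggle u s) = C ⊓ stab s := by
      refine le_antisymm ?_ (stab_inf_le_toggle u s)
      have := stab_inf_le_toggle u (toggle u s)
      rwa [toggle_toggle (p := p) hc hst] at this
    rw [heq, ← add_mul]
    convert zero_mul (W (C ⊓ stab s)) using 2
    have hpos := Finset.card_pos.2 hc.1
    have hpos' := Finset.card_pos.2 hc'.1
    unfold toggle at hpos' ⊢
    split_ifs at hpos' ⊢ with hX
    · rw [Finset.card_erase_of_mem hX] at hpos' ⊢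
      rw [show s.card - 1 = s.card - 1 - 1 + 1 by omega, pow_succ]
      simp
    · rw [Finset.card_insert_of_notMem hX, Nat.add_sub_cancel,
        show s.card = s.card - 1 + 1 by omega, pow_succ]
      simp
  · intro s hs _ he
    unfold toggle at he
    split_ifs at he with hX
    · exact Finset.erase_ne_self.2 hX he
    · exact Finset.insert_ne_self.2 hX he
  · intro s hs
    obtain ⟨hc, hst⟩ := (hS s).1 (Finset.mem_erase.1 hs).2
    exact toggle_toggle hc hst

end Cfsg.Agent.Lib.ChainSum
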